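import Cfsg.Agent.J4Maximal.Data29.Nodes0
import Cfsg.Agent.J4Maximal.Data29.Nodes1
import Cfsg.Agent.J4Maximal.Data29.Nodes2
import Cfsg.Agent.J4Maximal.Data29.Nodes3
import Cfsg.Agent.J4Maximal.Data29.Nodes4
import Cfsg.Agent.J4Maximal.Data29.Nodes5
import Cfsg.Agent.J4Maximal.Data29.Nodes6

/-!
The table of the nodes and how they arise.
-/

set_option autoImplicit false
set_option maxRecDepth 8000

namespace Cfsg.Lib.J4Maximal.P29

open Cfsg.Lib.J4Cert

def ndTree0 : Tr (List ℕ) := .node (.leaf nd0) (.leaf nd512)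

def ndTree1 : Tr (List ℕ) := .node ndTree0 (.leaf nd256)

def ndTree2 : Tr (List ℕ) := .node (.leaf nd128) (.leaf nd384)

def ndTree3 : Tr (List ℕ) := .node ndTree1 ndTree2

def ndTree4 : Tr (List ℕ) := .node (.leaf nd64) (.leaf nd320)

def ndTree5 : Tr (List ℕ) := .node (.leaf nd192) (.leaf nd448)

def ndTree6 : Tr (List ℕ) := .node ndTree4 ndTree5

def ndTree7 : Tr (List ℕ) := .node ndTree3 ndTree6

def ndTree8 : Tr (List ℕ) := .node (.leaf nd32) (.leaf nd544)

def ndTree9 : Tr (List ℕ) := .node ndTree8 (.leaf nd288)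

def ndTree10 : Tr (List ℕ) := .node (.leaf nd160) (.leaf nd416)

def ndTree11 : Tr (List ℕ) := .node ndTree9 ndTree10

def ndTree12 : Tr (List ℕ) := .node (.leaf nd96) (.leaf nd352)

def ndTree13 : Tr (List ℕ) := .node (.leaf nd224) (.leaf nd480)

def ndTree14 : Tr (List ℕ) := .node ndTree12 ndTree13

def ndTree15 : Tr (List ℕ) := .node ndTree11 ndTree14

def ndTree16 : Tr (List ℕ) := .node ndTree7 ndTree15

def ndTree17 : Tr (List ℕ) := .node (.leaf nd16) (.leaf nd528)

def ndTree18 : Tr (List ℕ) := .node ndTree17 (.leaf nd272)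

def ndTree19 : Tr (List ℕ) := .node (.leaf nd144) (.leaf nd400)

def ndTree20 : Tr (List ℕ) := .node ndTree18 ndTree19

def ndTree21 : Tr (List ℕ) := .node (.leaf nd80) (.leaf nd336)

def ndTree22 : Tr (List ℕ) := .node (.leaf nd208) (.leaf nd464)

def ndTree23 : Tr (List ℕ) := .node ndTree21 ndTree22

def ndTree24 : Tr (List ℕ) := .node ndTree20 ndTree23

def ndTree25 : Tr (List ℕ) := .node (.leaf nd48) (.leaf nd304)

def ndTree26 : Tr (List ℕ) := .node (.leaf nd176) (.leaf nd432)

def ndTree27 : Tr (List ℕ) := .node ndTree25 ndTree26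

def ndTree28 : Tr (List ℕ) := .node (.leaf nd112) (.leaf nd368)

def ndTree29 : Tr (List ℕ) := .node (.leaf nd240) (.leaf nd496)

def ndTree30 : Tr (List ℕ) := .node ndTree28 ndTree29

def ndTree31 : Tr (List ℕ) := .node ndTree27 ndTree30

def ndTree32 : Tr (List ℕ) := .node ndTree24 ndTree31

def ndTree33 : Tr (List ℕ) := .node ndTree16 ndTree32

def ndTree34 : Tr (List ℕ) := .node (.leaf nd8) (.leaf nd520)

def ndTree35 : Tr (List ℕ) := .node ndTree34 (.leaf nd264)

def ndTree36 : Tr (List ℕ) := .node (.leaf nd136) (.leaf nd392)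

def ndTree37 : Tr (List ℕ) := .node ndTree35 ndTree36

def ndTree38 : Tr (List ℕ) := .node (.leaf nd72) (.leaf nd328)

def ndTree39 : Tr (List ℕ) := .node (.leaf nd200) (.leaf nd456)

def ndTree40 : Tr (List ℕ) := .node ndTree38 ndTree39

def ndTree41 : Tr (List ℕ) := .node ndTree37 ndTree40

def ndTree42 : Tr (List ℕ) := .node (.leaf nd40) (.leaf nd552)

def ndTree43 : Tr (List ℕ) := .node ndTree42 (.leaf nd296)

def ndTree44 : Tr (List ℕ) := .node (.leaf nd168) (.leaf nd424)

def ndTree45 : Tr (List ℕ) := .node ndTree43 ndTree44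

def ndTree46 : Tr (List ℕ) := .node (.leaf nd104) (.leaf nd360)

def ndTree47 : Tr (List ℕ) := .node (.leaf nd232) (.leaf nd488)

def ndTree48 : Tr (List ℕ) := .node ndTree46 ndTree47

def ndTree49 : Tr (List ℕ) := .node ndTree45 ndTree48

def ndTree50 : Tr (List ℕ) := .node ndTree41 ndTree49

def ndTree51 : Tr (List ℕ) := .node (.leaf nd24) (.leaf nd536)

def ndTree52 : Tr (List ℕ) := .node ndTree51 (.leaf nd280)

def ndTree53 : Tr (List ℕ) := .node (.leaf nd152) (.leaf nd408)

def ndTree54 : Tr (List ℕ) := .node ndTree52 ndTree53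

def ndTree55 : Tr (List ℕ) := .node (.leaf nd88) (.leaf nd344)

def ndTree56 : Tr (List ℕ) := .node (.leaf nd216) (.leaf nd472)

def ndTree57 : Tr (List ℕ) := .node ndTree55 ndTree56

def ndTree58 : Tr (List ℕ) := .node ndTree54 ndTree57

def ndTree59 : Tr (List ℕ) := .node (.leaf nd56) (.leaf nd312)

def ndTree60 : Tr (List ℕ) := .node (.leaf nd184) (.leaf nd440)

def ndTree61 : Tr (List ℕ) := .node ndTree59 ndTree60

def ndTree62 : Tr (List ℕ) := .node (.leaf nd120) (.leaf nd376)

def ndTree63 : Tr (List ℕ) := .node (.leaf nd248) (.leaf nd504)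

def ndTree64 : Tr (List ℕ) := .node ndTree62 ndTree63

def ndTree65 : Tr (List ℕ) := .node ndTree61 ndTree64

def ndTree66 : Tr (List ℕ) := .node ndTree58 ndTree65

def ndTree67 : Tr (List ℕ) := .node ndTree50 ndTree66

def ndTree68 : Tr (List ℕ) := .node ndTree33 ndTree67

def ndTree69 : Tr (List ℕ) := .node (.leaf nd4) (.leaf nd516)

def ndTree70 : Tr (List ℕ) := .node ndTree69 (.leaf nd260)

def ndTree71 : Tr (List ℕ) := .node (.leaf nd132) (.leaf nd388)

def ndTree72 : Tr (List ℕ) := .node ndTree70 ndTree71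

def ndTree73 : Tr (List ℕ) := .node (.leaf nd68) (.leaf nd324)

def ndTree74 : Tr (List ℕ) := .node (.leaf nd196) (.leaf nd452)

def ndTree75 : Tr (List ℕ) := .node ndTree73 ndTree74

def ndTree76 : Tr (List ℕ) := .node ndTree72 ndTree75

def ndTree77 : Tr (List ℕ) := .node (.leaf nd36) (.leaf nd548)

def ndTree78 : Tr (List ℕ) := .node ndTree77 (.leaf nd292)

def ndTree79 : Tr (List ℕ) := .node (.leaf nd164) (.leaf nd420)

def ndTree80 : Tr (List ℕ) := .node ndTree78 ndTree79

def ndTree81 : Tr (List ℕ) := .node (.leaf nd100) (.leaf nd356)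

def ndTree82 : Tr (List ℕ) := .node (.leaf nd228) (.leaf nd484)

def ndTree83 : Tr (List ℕ) := .node ndTree81 ndTree82

def ndTree84 : Tr (List ℕ) := .node ndTree80 ndTree83

def ndTree85 : Tr (List ℕ) := .node ndTree76 ndTree84

def ndTree86 : Tr (List ℕ) := .node (.leaf nd20) (.leaf nd532)

def ndTree87 : Tr (List ℕ) := .node ndTree86 (.leaf nd276)

def ndTree88 : Tr (List ℕ) := .node (.leaf nd148) (.leaf nd404)

def ndTree89 : Tr (List ℕ) := .node ndTree87 ndTree88

def ndTree90 : Tr (List ℕ) := .node (.leaf nd84) (.leaf nd340)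

def ndTree91 : Tr (List ℕ) := .node (.leaf nd212) (.leaf nd468)

def ndTree92 : Tr (List ℕ) := .node ndTree90 ndTree91

def ndTree93 : Tr (List ℕ) := .node ndTree89 ndTree92

def ndTree94 : Tr (List ℕ) := .node (.leaf nd52) (.leaf nd308)

def ndTree95 : Tr (List ℕ) := .node (.leaf nd180) (.leaf nd436)

def ndTree96 : Tr (List ℕ) := .node ndTree94 ndTree95

def ndTree97 : Tr (List ℕ) := .node (.leaf nd116) (.leaf nd372)

def ndTree98 : Tr (List ℕ) := .node (.leaf nd244) (.leaf nd500)

def ndTree99 : Tr (List ℕ) := .node ndTree97 ndTree98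

def ndTree100 : Tr (List ℕ) := .node ndTree96 ndTree99

def ndTree101 : Tr (List ℕ) := .node ndTree93 ndTree100

def ndTree102 : Tr (List ℕ) := .node ndTree85 ndTree101

def ndTree103 : Tr (List ℕ) := .node (.leaf nd12) (.leaf nd524)

def ndTree104 : Tr (List ℕ) := .node ndTree103 (.leaf nd268)

def ndTree105 : Tr (List ℕ) := .node (.leaf nd140) (.leaf nd396)

def ndTree106 : Tr (List ℕ) := .node ndTree104 ndTree105

def ndTree107 : Tr (List ℕ) := .node (.leaf nd76) (.leaf nd332)

def ndTree108 : Tr (List ℕ) := .node (.leaf nd204) (.leaf nd460)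

def ndTree109 : Tr (List ℕ) := .node ndTree107 ndTree108

def ndTree110 : Tr (List ℕ) := .node ndTree106 ndTree109

def ndTree111 : Tr (List ℕ) := .node (.leaf nd44) (.leaf nd300)

def ndTree112 : Tr (List ℕ) := .node (.leaf nd172) (.leaf nd428)

def ndTree113 : Tr (List ℕ) := .node ndTree111 ndTree112

def ndTree114 : Tr (List ℕ) := .node (.leaf nd108) (.leaf nd364)

def ndTree115 : Tr (List ℕ) := .node (.leaf nd236) (.leaf nd492)

def ndTree116 : Tr (List ℕ) := .node ndTree114 ndTree115

def ndTree117 : Tr (List ℕ) := .node ndTree113 ndTree116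

def ndTree118 : Tr (List ℕ) := .node ndTree110 ndTree117

def ndTree119 : Tr (List ℕ) := .node (.leaf nd28) (.leaf nd540)

def ndTree120 : Tr (List ℕ) := .node ndTree119 (.leaf nd284)

def ndTree121 : Tr (List ℕ) := .node (.leaf nd156) (.leaf nd412)

def ndTree122 : Tr (List ℕ) := .node ndTree120 ndTree121

def ndTree123 : Tr (List ℕ) := .node (.leaf nd92) (.leaf nd348)

def ndTree124 : Tr (List ℕ) := .node (.leaf nd220) (.leaf nd476)

def ndTree125 : Tr (List ℕ) := .node ndTree123 ndTree124

def ndTree126 : Tr (List ℕ) := .node ndTree122 ndTree125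

def ndTree127 : Tr (List ℕ) := .node (.leaf nd60) (.leaf nd316)

def ndTree128 : Tr (List ℕ) := .node (.leaf nd188) (.leaf nd444)

def ndTree129 : Tr (List ℕ) := .node ndTree127 ndTree128

def ndTree130 : Tr (List ℕ) := .node (.leaf nd124) (.leaf nd380)

def ndTree131 : Tr (List ℕ) := .node (.leaf nd252) (.leaf nd508)

def ndTree132 : Tr (List ℕ) := .node ndTree130 ndTree131

def ndTree133 : Tr (List ℕ) := .node ndTree129 ndTree132

def ndTree134 : Tr (List ℕ) := .node ndTree126 ndTree133

def ndTree135 : Tr (List ℕ) := .node ndTree118 ndTree134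

def ndTree136 : Tr (List ℕ) := .node ndTree102 ndTree135

def ndTree137 : Tr (List ℕ) := .node ndTree68 ndTree136

def ndTree138 : Tr (List ℕ) := .node (.leaf nd2) (.leaf nd514)

def ndTree139 : Tr (List ℕ) := .node ndTree138 (.leaf nd258)

def ndTree140 : Tr (List ℕ) := .node (.leaf nd130) (.leaf nd386)

def ndTree141 : Tr (List ℕ) := .node ndTree139 ndTree140

def ndTree142 : Tr (List ℕ) := .node (.leaf nd66) (.leaf nd322)

def ndTree143 : Tr (List ℕ) := .node (.leaf nd194) (.leaf nd450)

def ndTree144 : Tr (List ℕ) := .node ndTree142 ndTree143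

def ndTree145 : Tr (List ℕ) := .node ndTree141 ndTree144

def ndTree146 : Tr (List ℕ) := .node (.leaf nd34) (.leaf nd546)

def ndTree147 : Tr (List ℕ) := .node ndTree146 (.leaf nd290)

def ndTree148 : Tr (List ℕ) := .node (.leaf nd162) (.leaf nd418)

def ndTree149 : Tr (List ℕ) := .node ndTree147 ndTree148

def ndTree150 : Tr (List ℕ) := .node (.leaf nd98) (.leaf nd354)

def ndTree151 : Tr (List ℕ) := .node (.leaf nd226) (.leaf nd482)

def ndTree152 : Tr (List ℕ) := .node ndTree150 ndTree151

def ndTree153 : Tr (List ℕ) := .node ndTree149 ndTree152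

def ndTree154 : Tr (List ℕ) := .node ndTree145 ndTree153

def ndTree155 : Tr (List ℕ) := .node (.leaf nd18) (.leaf nd530)

def ndTree156 : Tr (List ℕ) := .node ndTree155 (.leaf nd274)

def ndTree157 : Tr (List ℕ) := .node (.leaf nd146) (.leaf nd402)

def ndTree158 : Tr (List ℕ) := .node ndTree156 ndTree157

def ndTree159 : Tr (List ℕ) := .node (.leaf nd82) (.leaf nd338)

def ndTree160 : Tr (List ℕ) := .node (.leaf nd210) (.leaf nd466)

def ndTree161 : Tr (List ℕ) := .node ndTree159 ndTree160

def ndTree162 : Tr (List ℕ) := .node ndTree158 ndTree161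

def ndTree163 : Tr (List ℕ) := .node (.leaf nd50) (.leaf nd306)

def ndTree164 : Tr (List ℕ) := .node (.leaf nd178) (.leaf nd434)

def ndTree165 : Tr (List ℕ) := .node ndTree163 ndTree164

def ndTree166 : Tr (List ℕ) := .node (.leaf nd114) (.leaf nd370)

def ndTree167 : Tr (List ℕ) := .node (.leaf nd242) (.leaf nd498)

def ndTree168 : Tr (List ℕ) := .node ndTree166 ndTree167

def ndTree169 : Tr (List ℕ) := .node ndTree165 ndTree168

def ndTree170 : Tr (List ℕ) := .node ndTree162 ndTree169

def ndTree171 : Tr (List ℕ) := .node ndTree154 ndTree170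

def ndTree172 : Tr (List ℕ) := .node (.leaf nd10) (.leaf nd522)

def ndTree173 : Tr (List ℕ) := .node ndTree172 (.leaf nd266)

def ndTree174 : Tr (List ℕ) := .node (.leaf nd138) (.leaf nd394)

def ndTree175 : Tr (List ℕ) := .node ndTree173 ndTree174

def ndTree176 : Tr (List ℕ) := .node (.leaf nd74) (.leaf nd330)

def ndTree177 : Tr (List ℕ) := .node (.leaf nd202) (.leaf nd458)

def ndTree178 : Tr (List ℕ) := .node ndTree176 ndTree177

def ndTree179 : Tr (List ℕ) := .node ndTree175 ndTree178

def ndTree180 : Tr (List ℕ) := .node (.leaf nd42) (.leaf nd298)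

def ndTree181 : Tr (List ℕ) := .node (.leaf nd170) (.leaf nd426)

def ndTree182 : Tr (List ℕ) := .node ndTree180 ndTree181

def ndTree183 : Tr (List ℕ) := .node (.leaf nd106) (.leaf nd362)

def ndTree184 : Tr (List ℕ) := .node (.leaf nd234) (.leaf nd490)

def ndTree185 : Tr (List ℕ) := .node ndTree183 ndTree184

def ndTree186 : Tr (List ℕ) := .node ndTree182 ndTree185

def ndTree187 : Tr (List ℕ) := .node ndTree179 ndTree186

def ndTree188 : Tr (List ℕ) := .node (.leaf nd26) (.leaf nd538)

def ndTree189 : Tr (List ℕ) := .node ndTree188 (.leaf nd282)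

def ndTree190 : Tr (List ℕ) := .node (.leaf nd154) (.leaf nd410)

def ndTree191 : Tr (List ℕ) := .node ndTree189 ndTree190

def ndTree192 : Tr (List ℕ) := .node (.leaf nd90) (.leaf nd346)

def ndTree193 : Tr (List ℕ) := .node (.leaf nd218) (.leaf nd474)

def ndTree194 : Tr (List ℕ) := .node ndTree192 ndTree193

def ndTree195 : Tr (List ℕ) := .node ndTree191 ndTree194

def ndTree196 : Tr (List ℕ) := .node (.leaf nd58) (.leaf nd314)

def ndTree197 : Tr (List ℕ) := .node (.leaf nd186) (.leaf nd442)

def ndTree198 : Tr (List ℕ) := .node ndTree196 ndTree197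

def ndTree199 : Tr (List ℕ) := .node (.leaf nd122) (.leaf nd378)

def ndTree200 : Tr (List ℕ) := .node (.leaf nd250) (.leaf nd506)

def ndTree201 : Tr (List ℕ) := .node ndTree199 ndTree200

def ndTree202 : Tr (List ℕ) := .node ndTree198 ndTree201

def ndTree203 : Tr (List ℕ) := .node ndTree195 ndTree202

def ndTree204 : Tr (List ℕ) := .node ndTree187 ndTree203

def ndTree205 : Tr (List ℕ) := .node ndTree171 ndTree204

def ndTree206 : Tr (List ℕ) := .node (.leaf nd6) (.leaf nd518)

def ndTree207 : Tr (List ℕ) := .node ndTree206 (.leaf nd262)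

def ndTree208 : Tr (List ℕ) := .node (.leaf nd134) (.leaf nd390)

def ndTree209 : Tr (List ℕ) := .node ndTree207 ndTree208

def ndTree210 : Tr (List ℕ) := .node (.leaf nd70) (.leaf nd326)

def ndTree211 : Tr (List ℕ) := .node (.leaf nd198) (.leaf nd454)

def ndTree212 : Tr (List ℕ) := .node ndTree210 ndTree211

def ndTree213 : Tr (List ℕ) := .node ndTree209 ndTree212

def ndTree214 : Tr (List ℕ) := .node (.leaf nd38) (.leaf nd550)

def ndTree215 : Tr (List ℕ) := .node ndTree214 (.leaf nd294)

def ndTree216 : Tr (List ℕ) := .node (.leaf nd166) (.leaf nd422)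

def ndTree217 : Tr (List ℕ) := .node ndTree215 ndTree216

def ndTree218 : Tr (List ℕ) := .node (.leaf nd102) (.leaf nd358)

def ndTree219 : Tr (List ℕ) := .node (.leaf nd230) (.leaf nd486)

def ndTree220 : Tr (List ℕ) := .node ndTree218 ndTree219

def ndTree221 : Tr (List ℕ) := .node ndTree217 ndTree220

def ndTree222 : Tr (List ℕ) := .node ndTree213 ndTree221

def ndTree223 : Tr (List ℕ) := .node (.leaf nd22) (.leaf nd534)

def ndTree224 : Tr (List ℕ) := .node ndTree223 (.leaf nd278)

def ndTree225 : Tr (List ℕ) := .node (.leaf nd150) (.leaf nd406)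

def ndTree226 : Tr (List ℕ) := .node ndTree224 ndTree225

def ndTree227 : Tr (List ℕ) := .node (.leaf nd86) (.leaf nd342)

def ndTree228 : Tr (List ℕ) := .node (.leaf nd214) (.leaf nd470)

def ndTree229 : Tr (List ℕ) := .node ndTree227 ndTree228

def ndTree230 : Tr (List ℕ) := .node ndTree226 ndTree229

def ndTree231 : Tr (List ℕ) := .node (.leaf nd54) (.leaf nd310)

def ndTree232 : Tr (List ℕ) := .node (.leaf nd182) (.leaf nd438)

def ndTree233 : Tr (List ℕ) := .node ndTree231 ndTree232

def ndTree234 : Tr (List ℕ) := .node (.leaf nd118) (.leaf nd374)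

def ndTree235 : Tr (List ℕ) := .node (.leaf nd246) (.leaf nd502)

def ndTree236 : Tr (List ℕ) := .node ndTree234 ndTree235

def ndTree237 : Tr (List ℕ) := .node ndTree233 ndTree236

def ndTree238 : Tr (List ℕ) := .node ndTree230 ndTree237

def ndTree239 : Tr (List ℕ) := .node ndTree222 ndTree238

def ndTree240 : Tr (List ℕ) := .node (.leaf nd14) (.leaf nd526)

def ndTree241 : Tr (List ℕ) := .node ndTree240 (.leaf nd270)

def ndTree242 : Tr (List ℕ) := .node (.leaf nd142) (.leaf nd398)

def ndTree243 : Tr (List ℕ) := .node ndTree241 ndTree242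

def ndTree244 : Tr (List ℕ) := .node (.leaf nd78) (.leaf nd334)

def ndTree245 : Tr (List ℕ) := .node (.leaf nd206) (.leaf nd462)

def ndTree246 : Tr (List ℕ) := .node ndTree244 ndTree245

def ndTree247 : Tr (List ℕ) := .node ndTree243 ndTree246

def ndTree248 : Tr (List ℕ) := .node (.leaf nd46) (.leaf nd302)

def ndTree249 : Tr (List ℕ) := .node (.leaf nd174) (.leaf nd430)

def ndTree250 : Tr (List ℕ) := .node ndTree248 ndTree249

def ndTree251 : Tr (List ℕ) := .node (.leaf nd110) (.leaf nd366)

def ndTree252 : Tr (List ℕ) := .node (.leaf nd238) (.leaf nd494)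

def ndTree253 : Tr (List ℕ) := .node ndTree251 ndTree252

def ndTree254 : Tr (List ℕ) := .node ndTree250 ndTree253

def ndTree255 : Tr (List ℕ) := .node ndTree247 ndTree254

def ndTree256 : Tr (List ℕ) := .node (.leaf nd30) (.leaf nd542)

def ndTree257 : Tr (List ℕ) := .node ndTree256 (.leaf nd286)

def ndTree258 : Tr (List ℕ) := .node (.leaf nd158) (.leaf nd414)

def ndTree259 : Tr (List ℕ) := .node ndTree257 ndTree258

def ndTree260 : Tr (List ℕ) := .node (.leaf nd94) (.leaf nd350)

def ndTree261 : Tr (List ℕ) := .node (.leaf nd222) (.leaf nd478)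

def ndTree262 : Tr (List ℕ) := .node ndTree260 ndTree261

def ndTree263 : Tr (List ℕ) := .node ndTree259 ndTree262

def ndTree264 : Tr (List ℕ) := .node (.leaf nd62) (.leaf nd318)

def ndTree265 : Tr (List ℕ) := .node (.leaf nd190) (.leaf nd446)

def ndTree266 : Tr (List ℕ) := .node ndTree264 ndTree265

def ndTree267 : Tr (List ℕ) := .node (.leaf nd126) (.leaf nd382)

def ndTree268 : Tr (List ℕ) := .node (.leaf nd254) (.leaf nd510)

def ndTree269 : Tr (List ℕ) := .node ndTree267 ndTree268

def ndTree270 : Tr (List ℕ) := .node ndTree266 ndTree269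

def ndTree271 : Tr (List ℕ) := .node ndTree263 ndTree270

def ndTree272 : Tr (List ℕ) := .node ndTree255 ndTree271

def ndTree273 : Tr (List ℕ) := .node ndTree239 ndTree272

def ndTree274 : Tr (List ℕ) := .node ndTree205 ndTree273

def ndTree275 : Tr (List ℕ) := .node ndTree137 ndTree274

def ndTree276 : Tr (List ℕ) := .node (.leaf nd1) (.leaf nd513)

def ndTree277 : Tr (List ℕ) := .node ndTree276 (.leaf nd257)

def ndTree278 : Tr (List ℕ) := .node (.leaf nd129) (.leaf nd385)

def ndTree279 : Tr (List ℕ) := .node ndTree277 ndTree278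

def ndTree280 : Tr (List ℕ) := .node (.leaf nd65) (.leaf nd321)

def ndTree281 : Tr (List ℕ) := .node (.leaf nd193) (.leaf nd449)

def ndTree282 : Tr (List ℕ) := .node ndTree280 ndTree281

def ndTree283 : Tr (List ℕ) := .node ndTree279 ndTree282

def ndTree284 : Tr (List ℕ) := .node (.leaf nd33) (.leaf nd545)

def ndTree285 : Tr (List ℕ) := .node ndTree284 (.leaf nd289)

def ndTree286 : Tr (List ℕ) := .node (.leaf nd161) (.leaf nd417)

def ndTree287 : Tr (List ℕ) := .node ndTree285 ndTree286

def ndTree288 : Tr (List ℕ) := .node (.leaf nd97) (.leaf nd353)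

def ndTree289 : Tr (List ℕ) := .node (.leaf nd225) (.leaf nd481)

def ndTree290 : Tr (List ℕ) := .node ndTree288 ndTree289

def ndTree291 : Tr (List ℕ) := .node ndTree287 ndTree290

def ndTree292 : Tr (List ℕ) := .node ndTree283 ndTree291

def ndTree293 : Tr (List ℕ) := .node (.leaf nd17) (.leaf nd529)

def ndTree294 : Tr (List ℕ) := .node ndTree293 (.leaf nd273)

def ndTree295 : Tr (List ℕ) := .node (.leaf nd145) (.leaf nd401)

def ndTree296 : Tr (List ℕ) := .node ndTree294 ndTree295

def ndTree297 : Tr (List ℕ) := .node (.leaf nd81) (.leaf nd337)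

def ndTree298 : Tr (List ℕ) := .node (.leaf nd209) (.leaf nd465)

def ndTree299 : Tr (List ℕ) := .node ndTree297 ndTree298

def ndTree300 : Tr (List ℕ) := .node ndTree296 ndTree299

def ndTree301 : Tr (List ℕ) := .node (.leaf nd49) (.leaf nd305)

def ndTree302 : Tr (List ℕ) := .node (.leaf nd177) (.leaf nd433)

def ndTree303 : Tr (List ℕ) := .node ndTree301 ndTree302

def ndTree304 : Tr (List ℕ) := .node (.leaf nd113) (.leaf nd369)

def ndTree305 : Tr (List ℕ) := .node (.leaf nd241) (.leaf nd497)

def ndTree306 : Tr (List ℕ) := .node ndTree304 ndTree305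

def ndTree307 : Tr (List ℕ) := .node ndTree303 ndTree306

def ndTree308 : Tr (List ℕ) := .node ndTree300 ndTree307

def ndTree309 : Tr (List ℕ) := .node ndTree292 ndTree308

def ndTree310 : Tr (List ℕ) := .node (.leaf nd9) (.leaf nd521)

def ndTree311 : Tr (List ℕ) := .node ndTree310 (.leaf nd265)

def ndTree312 : Tr (List ℕ) := .node (.leaf nd137) (.leaf nd393)

def ndTree313 : Tr (List ℕ) := .node ndTree311 ndTree312

def ndTree314 : Tr (List ℕ) := .node (.leaf nd73) (.leaf nd329)

def ndTree315 : Tr (List ℕ) := .node (.leaf nd201) (.leaf nd457)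

def ndTree316 : Tr (List ℕ) := .node ndTree314 ndTree315

def ndTree317 : Tr (List ℕ) := .node ndTree313 ndTree316

def ndTree318 : Tr (List ℕ) := .node (.leaf nd41) (.leaf nd297)

def ndTree319 : Tr (List ℕ) := .node (.leaf nd169) (.leaf nd425)

def ndTree320 : Tr (List ℕ) := .node ndTree318 ndTree319

def ndTree321 : Tr (List ℕ) := .node (.leaf nd105) (.leaf nd361)

def ndTree322 : Tr (List ℕ) := .node (.leaf nd233) (.leaf nd489)

def ndTree323 : Tr (List ℕ) := .node ndTree321 ndTree322

def ndTree324 : Tr (List ℕ) := .node ndTree320 ndTree323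

def ndTree325 : Tr (List ℕ) := .node ndTree317 ndTree324

def ndTree326 : Tr (List ℕ) := .node (.leaf nd25) (.leaf nd537)

def ndTree327 : Tr (List ℕ) := .node ndTree326 (.leaf nd281)

def ndTree328 : Tr (List ℕ) := .node (.leaf nd153) (.leaf nd409)

def ndTree329 : Tr (List ℕ) := .node ndTree327 ndTree328

def ndTree330 : Tr (List ℕ) := .node (.leaf nd89) (.leaf nd345)

def ndTree331 : Tr (List ℕ) := .node (.leaf nd217) (.leaf nd473)

def ndTree332 : Tr (List ℕ) := .node ndTree330 ndTree331

def ndTree333 : Tr (List ℕ) := .node ndTree329 ndTree332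

def ndTree334 : Tr (List ℕ) := .node (.leaf nd57) (.leaf nd313)

def ndTree335 : Tr (List ℕ) := .node (.leaf nd185) (.leaf nd441)

def ndTree336 : Tr (List ℕ) := .node ndTree334 ndTree335

def ndTree337 : Tr (List ℕ) := .node (.leaf nd121) (.leaf nd377)

def ndTree338 : Tr (List ℕ) := .node (.leaf nd249) (.leaf nd505)

def ndTree339 : Tr (List ℕ) := .node ndTree337 ndTree338

def ndTree340 : Tr (List ℕ) := .node ndTree336 ndTree339

def ndTree341 : Tr (List ℕ) := .node ndTree333 ndTree340

def ndTree342 : Tr (List ℕ) := .node ndTree325 ndTree341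

def ndTree343 : Tr (List ℕ) := .node ndTree309 ndTree342

def ndTree344 : Tr (List ℕ) := .node (.leaf nd5) (.leaf nd517)

def ndTree345 : Tr (List ℕ) := .node ndTree344 (.leaf nd261)

def ndTree346 : Tr (List ℕ) := .node (.leaf nd133) (.leaf nd389)

def ndTree347 : Tr (List ℕ) := .node ndTree345 ndTree346

def ndTree348 : Tr (List ℕ) := .node (.leaf nd69) (.leaf nd325)

def ndTree349 : Tr (List ℕ) := .node (.leaf nd197) (.leaf nd453)

def ndTree350 : Tr (List ℕ) := .node ndTree348 ndTree349

def ndTree351 : Tr (List ℕ) := .node ndTree347 ndTree350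

def ndTree352 : Tr (List ℕ) := .node (.leaf nd37) (.leaf nd549)

def ndTree353 : Tr (List ℕ) := .node ndTree352 (.leaf nd293)

def ndTree354 : Tr (List ℕ) := .node (.leaf nd165) (.leaf nd421)

def ndTree355 : Tr (List ℕ) := .node ndTree353 ndTree354

def ndTree356 : Tr (List ℕ) := .node (.leaf nd101) (.leaf nd357)

def ndTree357 : Tr (List ℕ) := .node (.leaf nd229) (.leaf nd485)

def ndTree358 : Tr (List ℕ) := .node ndTree356 ndTree357

def ndTree359 : Tr (List ℕ) := .node ndTree355 ndTree358

def ndTree360 : Tr (List ℕ) := .node ndTree351 ndTree359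

def ndTree361 : Tr (List ℕ) := .node (.leaf nd21) (.leaf nd533)

def ndTree362 : Tr (List ℕ) := .node ndTree361 (.leaf nd277)

def ndTree363 : Tr (List ℕ) := .node (.leaf nd149) (.leaf nd405)

def ndTree364 : Tr (List ℕ) := .node ndTree362 ndTree363

def ndTree365 : Tr (List ℕ) := .node (.leaf nd85) (.leaf nd341)

def ndTree366 : Tr (List ℕ) := .node (.leaf nd213) (.leaf nd469)

def ndTree367 : Tr (List ℕ) := .node ndTree365 ndTree366

def ndTree368 : Tr (List ℕ) := .node ndTree364 ndTree367

def ndTree369 : Tr (List ℕ) := .node (.leaf nd53) (.leaf nd309)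

def ndTree370 : Tr (List ℕ) := .node (.leaf nd181) (.leaf nd437)

def ndTree371 : Tr (List ℕ) := .node ndTree369 ndTree370

def ndTree372 : Tr (List ℕ) := .node (.leaf nd117) (.leaf nd373)

def ndTree373 : Tr (List ℕ) := .node (.leaf nd245) (.leaf nd501)

def ndTree374 : Tr (List ℕ) := .node ndTree372 ndTree373

def ndTree375 : Tr (List ℕ) := .node ndTree371 ndTree374

def ndTree376 : Tr (List ℕ) := .node ndTree368 ndTree375

def ndTree377 : Tr (List ℕ) := .node ndTree360 ndTree376

def ndTree378 : Tr (List ℕ) := .node (.leaf nd13) (.leaf nd525)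

def ndTree379 : Tr (List ℕ) := .node ndTree378 (.leaf nd269)

def ndTree380 : Tr (List ℕ) := .node (.leaf nd141) (.leaf nd397)

def ndTree381 : Tr (List ℕ) := .node ndTree379 ndTree380

def ndTree382 : Tr (List ℕ) := .node (.leaf nd77) (.leaf nd333)

def ndTree383 : Tr (List ℕ) := .node (.leaf nd205) (.leaf nd461)

def ndTree384 : Tr (List ℕ) := .node ndTree382 ndTree383

def ndTree385 : Tr (List ℕ) := .node ndTree381 ndTree384

def ndTree386 : Tr (List ℕ) := .node (.leaf nd45) (.leaf nd301)

def ndTree387 : Tr (List ℕ) := .node (.leaf nd173) (.leaf nd429)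

def ndTree388 : Tr (List ℕ) := .node ndTree386 ndTree387

def ndTree389 : Tr (List ℕ) := .node (.leaf nd109) (.leaf nd365)

def ndTree390 : Tr (List ℕ) := .node (.leaf nd237) (.leaf nd493)

def ndTree391 : Tr (List ℕ) := .node ndTree389 ndTree390

def ndTree392 : Tr (List ℕ) := .node ndTree388 ndTree391

def ndTree393 : Tr (List ℕ) := .node ndTree385 ndTree392

def ndTree394 : Tr (List ℕ) := .node (.leaf nd29) (.leaf nd541)

def ndTree395 : Tr (List ℕ) := .node ndTree394 (.leaf nd285)

def ndTree396 : Tr (List ℕ) := .node (.leaf nd157) (.leaf nd413)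

def ndTree397 : Tr (List ℕ) := .node ndTree395 ndTree396

def ndTree398 : Tr (List ℕ) := .node (.leaf nd93) (.leaf nd349)

def ndTree399 : Tr (List ℕ) := .node (.leaf nd221) (.leaf nd477)

def ndTree400 : Tr (List ℕ) := .node ndTree398 ndTree399

def ndTree401 : Tr (List ℕ) := .node ndTree397 ndTree400

def ndTree402 : Tr (List ℕ) := .node (.leaf nd61) (.leaf nd317)

def ndTree403 : Tr (List ℕ) := .node (.leaf nd189) (.leaf nd445)

def ndTree404 : Tr (List ℕ) := .node ndTree402 ndTree403

def ndTree405 : Tr (List ℕ) := .node (.leaf nd125) (.leaf nd381)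

def ndTree406 : Tr (List ℕ) := .node (.leaf nd253) (.leaf nd509)

def ndTree407 : Tr (List ℕ) := .node ndTree405 ndTree406

def ndTree408 : Tr (List ℕ) := .node ndTree404 ndTree407

def ndTree409 : Tr (List ℕ) := .node ndTree401 ndTree408

def ndTree410 : Tr (List ℕ) := .node ndTree393 ndTree409

def ndTree411 : Tr (List ℕ) := .node ndTree377 ndTree410

def ndTree412 : Tr (List ℕ) := .node ndTree343 ndTree411

def ndTree413 : Tr (List ℕ) := .node (.leaf nd3) (.leaf nd515)

def ndTree414 : Tr (List ℕ) := .node ndTree413 (.leaf nd259)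

def ndTree415 : Tr (List ℕ) := .node (.leaf nd131) (.leaf nd387)

def ndTree416 : Tr (List ℕ) := .node ndTree414 ndTree415

def ndTree417 : Tr (List ℕ) := .node (.leaf nd67) (.leaf nd323)

def ndTree418 : Tr (List ℕ) := .node (.leaf nd195) (.leaf nd451)

def ndTree419 : Tr (List ℕ) := .node ndTree417 ndTree418

def ndTree420 : Tr (List ℕ) := .node ndTree416 ndTree419

def ndTree421 : Tr (List ℕ) := .node (.leaf nd35) (.leaf nd547)

def ndTree422 : Tr (List ℕ) := .node ndTree421 (.leaf nd291)

def ndTree423 : Tr (List ℕ) := .node (.leaf nd163) (.leaf nd419)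

def ndTree424 : Tr (List ℕ) := .node ndTree422 ndTree423

def ndTree425 : Tr (List ℕ) := .node (.leaf nd99) (.leaf nd355)

def ndTree426 : Tr (List ℕ) := .node (.leaf nd227) (.leaf nd483)

def ndTree427 : Tr (List ℕ) := .node ndTree425 ndTree426

def ndTree428 : Tr (List ℕ) := .node ndTree424 ndTree427

def ndTree429 : Tr (List ℕ) := .node ndTree420 ndTree428

def ndTree430 : Tr (List ℕ) := .node (.leaf nd19) (.leaf nd531)

def ndTree431 : Tr (List ℕ) := .node ndTree430 (.leaf nd275)

def ndTree432 : Tr (List ℕ) := .node (.leaf nd147) (.leaf nd403)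

def ndTree433 : Tr (List ℕ) := .node ndTree431 ndTree432

def ndTree434 : Tr (List ℕ) := .node (.leaf nd83) (.leaf nd339)

def ndTree435 : Tr (List ℕ) := .node (.leaf nd211) (.leaf nd467)

def ndTree436 : Tr (List ℕ) := .node ndTree434 ndTree435

def ndTree437 : Tr (List ℕ) := .node ndTree433 ndTree436

def ndTree438 : Tr (List ℕ) := .node (.leaf nd51) (.leaf nd307)

def ndTree439 : Tr (List ℕ) := .node (.leaf nd179) (.leaf nd435)

def ndTree440 : Tr (List ℕ) := .node ndTree438 ndTree439

def ndTree441 : Tr (List ℕ) := .node (.leaf nd115) (.leaf nd371)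

def ndTree442 : Tr (List ℕ) := .node (.leaf nd243) (.leaf nd499)

def ndTree443 : Tr (List ℕ) := .node ndTree441 ndTree442

def ndTree444 : Tr (List ℕ) := .node ndTree440 ndTree443

def ndTree445 : Tr (List ℕ) := .node ndTree437 ndTree444

def ndTree446 : Tr (List ℕ) := .node ndTree429 ndTree445

def ndTree447 : Tr (List ℕ) := .node (.leaf nd11) (.leaf nd523)

def ndTree448 : Tr (List ℕ) := .node ndTree447 (.leaf nd267)

def ndTree449 : Tr (List ℕ) := .node (.leaf nd139) (.leaf nd395)

def ndTree450 : Tr (List ℕ) := .node ndTree448 ndTree449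

def ndTree451 : Tr (List ℕ) := .node (.leaf nd75) (.leaf nd331)

def ndTree452 : Tr (List ℕ) := .node (.leaf nd203) (.leaf nd459)

def ndTree453 : Tr (List ℕ) := .node ndTree451 ndTree452

def ndTree454 : Tr (List ℕ) := .node ndTree450 ndTree453

def ndTree455 : Tr (List ℕ) := .node (.leaf nd43) (.leaf nd299)

def ndTree456 : Tr (List ℕ) := .node (.leaf nd171) (.leaf nd427)

def ndTree457 : Tr (List ℕ) := .node ndTree455 ndTree456

def ndTree458 : Tr (List ℕ) := .node (.leaf nd107) (.leaf nd363)

def ndTree459 : Tr (List ℕ) := .node (.leaf nd235) (.leaf nd491)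

def ndTree460 : Tr (List ℕ) := .node ndTree458 ndTree459

def ndTree461 : Tr (List ℕ) := .node ndTree457 ndTree460

def ndTree462 : Tr (List ℕ) := .node ndTree454 ndTree461

def ndTree463 : Tr (List ℕ) := .node (.leaf nd27) (.leaf nd539)

def ndTree464 : Tr (List ℕ) := .node ndTree463 (.leaf nd283)

def ndTree465 : Tr (List ℕ) := .node (.leaf nd155) (.leaf nd411)

def ndTree466 : Tr (List ℕ) := .node ndTree464 ndTree465

def ndTree467 : Tr (List ℕ) := .node (.leaf nd91) (.leaf nd347)

def ndTree468 : Tr (List ℕ) := .node (.leaf nd219) (.leaf nd475)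

def ndTree469 : Tr (List ℕ) := .node ndTree467 ndTree468

def ndTree470 : Tr (List ℕ) := .node ndTree466 ndTree469

def ndTree471 : Tr (List ℕ) := .node (.leaf nd59) (.leaf nd315)

def ndTree472 : Tr (List ℕ) := .node (.leaf nd187) (.leaf nd443)

def ndTree473 : Tr (List ℕ) := .node ndTree471 ndTree472

def ndTree474 : Tr (List ℕ) := .node (.leaf nd123) (.leaf nd379)

def ndTree475 : Tr (List ℕ) := .node (.leaf nd251) (.leaf nd507)

def ndTree476 : Tr (List ℕ) := .node ndTree474 ndTree475

def ndTree477 : Tr (List ℕ) := .node ndTree473 ndTree476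

def ndTree478 : Tr (List ℕ) := .node ndTree470 ndTree477

def ndTree479 : Tr (List ℕ) := .node ndTree462 ndTree478

def ndTree480 : Tr (List ℕ) := .node ndTree446 ndTree479

def ndTree481 : Tr (List ℕ) := .node (.leaf nd7) (.leaf nd519)

def ndTree482 : Tr (List ℕ) := .node ndTree481 (.leaf nd263)

def ndTree483 : Tr (List ℕ) := .node (.leaf nd135) (.leaf nd391)

def ndTree484 : Tr (List ℕ) := .node ndTree482 ndTree483

def ndTree485 : Tr (List ℕ) := .node (.leaf nd71) (.leaf nd327)

def ndTree486 : Tr (List ℕ) := .node (.leaf nd199) (.leaf nd455)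

def ndTree487 : Tr (List ℕ) := .node ndTree485 ndTree486

def ndTree488 : Tr (List ℕ) := .node ndTree484 ndTree487

def ndTree489 : Tr (List ℕ) := .node (.leaf nd39) (.leaf nd551)

def ndTree490 : Tr (List ℕ) := .node ndTree489 (.leaf nd295)

def ndTree491 : Tr (List ℕ) := .node (.leaf nd167) (.leaf nd423)

def ndTree492 : Tr (List ℕ) := .node ndTree490 ndTree491

def ndTree493 : Tr (List ℕ) := .node (.leaf nd103) (.leaf nd359)

def ndTree494 : Tr (List ℕ) := .node (.leaf nd231) (.leaf nd487)

def ndTree495 : Tr (List ℕ) := .node ndTree493 ndTree494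

def ndTree496 : Tr (List ℕ) := .node ndTree492 ndTree495

def ndTree497 : Tr (List ℕ) := .node ndTree488 ndTree496

def ndTree498 : Tr (List ℕ) := .node (.leaf nd23) (.leaf nd535)

def ndTree499 : Tr (List ℕ) := .node ndTree498 (.leaf nd279)

def ndTree500 : Tr (List ℕ) := .node (.leaf nd151) (.leaf nd407)

def ndTree501 : Tr (List ℕ) := .node ndTree499 ndTree500

def ndTree502 : Tr (List ℕ) := .node (.leaf nd87) (.leaf nd343)

def ndTree503 : Tr (List ℕ) := .node (.leaf nd215) (.leaf nd471)

def ndTree504 : Tr (List ℕ) := .node ndTree502 ndTree503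

def ndTree505 : Tr (List ℕ) := .node ndTree501 ndTree504

def ndTree506 : Tr (List ℕ) := .node (.leaf nd55) (.leaf nd311)

def ndTree507 : Tr (List ℕ) := .node (.leaf nd183) (.leaf nd439)

def ndTree508 : Tr (List ℕ) := .node ndTree506 ndTree507

def ndTree509 : Tr (List ℕ) := .node (.leaf nd119) (.leaf nd375)

def ndTree510 : Tr (List ℕ) := .node (.leaf nd247) (.leaf nd503)

def ndTree511 : Tr (List ℕ) := .node ndTree509 ndTree510

def ndTree512 : Tr (List ℕ) := .node ndTree508 ndTree511

def ndTree513 : Tr (List ℕ) := .node ndTree505 ndTree512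

def ndTree514 : Tr (List ℕ) := .node ndTree497 ndTree513

def ndTree515 : Tr (List ℕ) := .node (.leaf nd15) (.leaf nd527)

def ndTree516 : Tr (List ℕ) := .node ndTree515 (.leaf nd271)

def ndTree517 : Tr (List ℕ) := .node (.leaf nd143) (.leaf nd399)

def ndTree518 : Tr (List ℕ) := .node ndTree516 ndTree517

def ndTree519 : Tr (List ℕ) := .node (.leaf nd79) (.leaf nd335)

def ndTree520 : Tr (List ℕ) := .node (.leaf nd207) (.leaf nd463)

def ndTree521 : Tr (List ℕ) := .node ndTree519 ndTree520

def ndTree522 : Tr (List ℕ) := .node ndTree518 ndTree521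

def ndTree523 : Tr (List ℕ) := .node (.leaf nd47) (.leaf nd303)

def ndTree524 : Tr (List ℕ) := .node (.leaf nd175) (.leaf nd431)

def ndTree525 : Tr (List ℕ) := .node ndTree523 ndTree524

def ndTree526 : Tr (List ℕ) := .node (.leaf nd111) (.leaf nd367)

def ndTree527 : Tr (List ℕ) := .node (.leaf nd239) (.leaf nd495)

def ndTree528 : Tr (List ℕ) := .node ndTree526 ndTree527

def ndTree529 : Tr (List ℕ) := .node ndTree525 ndTree528

def ndTree530 : Tr (List ℕ) := .node ndTree522 ndTree529

def ndTree531 : Tr (List ℕ) := .node (.leaf nd31) (.leaf nd543)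

def ndTree532 : Tr (List ℕ) := .node ndTree531 (.leaf nd287)

def ndTree533 : Tr (List ℕ) := .node (.leaf nd159) (.leaf nd415)

def ndTree534 : Tr (List ℕ) := .node ndTree532 ndTree533

def ndTree535 : Tr (List ℕ) := .node (.leaf nd95) (.leaf nd351)

def ndTree536 : Tr (List ℕ) := .node (.leaf nd223) (.leaf nd479)

def ndTree537 : Tr (List ℕ) := .node ndTree535 ndTree536

def ndTree538 : Tr (List ℕ) := .node ndTree534 ndTree537

def ndTree539 : Tr (List ℕ) := .node (.leaf nd63) (.leaf nd319)

def ndTree540 : Tr (List ℕ) := .node (.leaf nd191) (.leaf nd447)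

def ndTree541 : Tr (List ℕ) := .node ndTree539 ndTree540

def ndTree542 : Tr (List ℕ) := .node (.leaf nd127) (.leaf nd383)

def ndTree543 : Tr (List ℕ) := .node (.leaf nd255) (.leaf nd511)

def ndTree544 : Tr (List ℕ) := .node ndTree542 ndTree543

def ndTree545 : Tr (List ℕ) := .node ndTree541 ndTree544

def ndTree546 : Tr (List ℕ) := .node ndTree538 ndTree545

def ndTree547 : Tr (List ℕ) := .node ndTree530 ndTree546

def ndTree548 : Tr (List ℕ) := .node ndTree514 ndTree547

def ndTree549 : Tr (List ℕ) := .node ndTree480 ndTree548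

def ndTree550 : Tr (List ℕ) := .node ndTree412 ndTree549

def ndTree551 : Tr (List ℕ) := .node ndTree275 ndTree550

/-- The table of the nodes. -/
def ndTab : Tr (List ℕ) := ndTree551

/-- The products. -/
def ndProg0 : List (ℕ × ℕ) := [(2, 3), (4, 1), (5, 0), (1, 5), (6, 7), (3, 6), (1, 2), (3, 0), (11, 9), (12, 8), (9, 13), (8, 14), (2, 4), (0, 1), (17, 3), (16, 18), (2, 19), (14, 2), (20, 21), (20, 17), (20, 23), (22, 24), (18, 8), (26, 2), (14, 6), (1, 13), (28, 29), (27, 30), (31, 21), (25, 32), (28, 21), (34, 15), (15, 35), (15, 27), (1, 37), (36, 38), (33, 39), (15, 40), (41, 41), (42, 42), (42, 43), (43, 43), (44, 45), (45, 45), (46, 47), (48, 0), (49, 41), (0, 50), (0, 7), (52, 19), (3, 16), (54, 16), (55, 11), (53, 56), (57, 57), (58, 58), (57, 59), (59, 59), (61, 61), (60, 62), (0, 63), (0, 57), (64, 65), (66, 66), (67, 67), (68, 68), (69, 69), (67, 70), (57, 71), (72, 72), (72, 73), (73, 73), (74, 75), (16, 17), (16, 11), (78, 77), (77, 79), (80, 77), (79, 1), (81, 82)]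

/-- The products. -/
def ndProg1 : List (ℕ × ℕ) := [(83, 83), (0, 84), (0, 83), (85, 86), (87, 87), (87, 88), (88, 88), (89, 90), (90, 90), (91, 92), (83, 93), (76, 94), (79, 79), (79, 96), (96, 96), (98, 98), (97, 99), (0, 100), (0, 79), (101, 102), (103, 103), (104, 104), (105, 105), (106, 106), (104, 107), (79, 108), (95, 109), (81, 52), (111, 111), (112, 112), (111, 113), (113, 113), (114, 115), (0, 116), (0, 111), (117, 118), (119, 119), (120, 120), (120, 121), (121, 121), (122, 123), (111, 124), (125, 125), (125, 126), (126, 126), (128, 128), (127, 129), (129, 129), (130, 131), (110, 132), (133, 72), (109, 109), (135, 135), (136, 136), (109, 137), (138, 11), (138, 139), (138, 140), (72, 141), (52, 83), (52, 143), (144, 144), (144, 145), (145, 145), (147, 147), (146, 148), (148, 148), (149, 150), (0, 151), (0, 144), (152, 153), (154, 154), (155, 155), (156, 156), (157, 157), (155, 158), (144, 159), (160, 160), (161, 161), (160, 162)]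

/-- The products. -/
def ndProg2 : List (ℕ × ℕ) := [(162, 162), (163, 164), (11, 165), (160, 166), (125, 167), (109, 168), (142, 169), (134, 170), (1, 17), (172, 1), (3, 173), (3, 2), (0, 175), (1, 176), (174, 177), (2, 11), (179, 3), (179, 2), (3, 181), (182, 1), (174, 183), (177, 7), (7, 185), (177, 1), (186, 187), (188, 183), (184, 189), (190, 190), (191, 191), (192, 192), (191, 193), (193, 193), (195, 195), (194, 196), (0, 197), (0, 190), (198, 199), (200, 200), (201, 201), (200, 202), (202, 202), (204, 204), (203, 205), (190, 206), (207, 207), (208, 208), (208, 209), (173, 177), (184, 211), (212, 188), (213, 213), (214, 214), (215, 215), (215, 216), (216, 216), (217, 218), (0, 219), (0, 213), (220, 221), (222, 222), (223, 223), (223, 224), (224, 224), (225, 226), (213, 227), (228, 228), (228, 229), (229, 229), (231, 231), (230, 232), (210, 233), (212, 212), (235, 235), (235, 236), (236, 236), (237, 238), (0, 239), (0, 212), (240, 241), (242, 242)]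

/-- The products. -/
def ndProg3 : List (ℕ × ℕ) := [(243, 243), (244, 244), (245, 245), (212, 246), (234, 247), (189, 189), (249, 249), (249, 250), (250, 250), (251, 252), (252, 252), (253, 254), (0, 255), (0, 189), (256, 257), (258, 258), (259, 259), (260, 260), (261, 261), (189, 262), (263, 263), (264, 264), (263, 265), (265, 265), (267, 267), (266, 268), (269, 233), (270, 207), (0, 77), (0, 181), (272, 273), (274, 274), (275, 275), (276, 276), (277, 277), (181, 278), (271, 279), (248, 280), (279, 269), (210, 282), (233, 283), (184, 184), (285, 285), (286, 286), (287, 287), (288, 288), (0, 289), (0, 184), (290, 291), (292, 292), (293, 293), (294, 294), (295, 295), (184, 296), (297, 297), (297, 298), (298, 298), (299, 300), (300, 300), (302, 302), (301, 303), (247, 247), (305, 305), (247, 306), (306, 306), (307, 308), (309, 309), (304, 310), (284, 311), (281, 312), (172, 78), (179, 314), (78, 315), (17, 78), (317, 78), (3, 78), (17, 319), (320, 78), (17, 187), (1, 322)]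

/-- The products. -/
def ndProg4 : List (ℕ × ℕ) := [(321, 323), (78, 324), (325, 323), (318, 326), (327, 323), (315, 328), (326, 329), (316, 330), (331, 331), (332, 332), (333, 333), (331, 334), (334, 334), (336, 336), (335, 337), (0, 338), (0, 331), (339, 340), (341, 341), (342, 342), (341, 343), (343, 343), (345, 345), (344, 346), (331, 347), (326, 328), (349, 349), (349, 350), (350, 350), (351, 352), (352, 352), (353, 354), (0, 355), (0, 349), (356, 357), (358, 358), (358, 359), (359, 359), (361, 361), (360, 362), (349, 363), (364, 364), (365, 365), (366, 366), (365, 367), (348, 368), (0, 325), (370, 78), (349, 371), (372, 372), (373, 373), (372, 374), (374, 374), (376, 376), (375, 377), (0, 378), (0, 372), (379, 380), (381, 381), (382, 382), (382, 383), (383, 383), (384, 385), (372, 386), (327, 327), (388, 388), (389, 389), (390, 390), (391, 391), (389, 392), (0, 393), (0, 327), (394, 395), (396, 396), (396, 397), (397, 397), (398, 399), (399, 399), (400, 401), (327, 402)]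

/-- The products. -/
def ndProg5 : List (ℕ × ℕ) := [(403, 403), (404, 404), (403, 405), (405, 405), (406, 407), (387, 408), (409, 368), (348, 410), (179, 323), (318, 412), (413, 371), (9, 320), (415, 78), (179, 416), (371, 417), (414, 418), (419, 419), (419, 420), (420, 420), (421, 422), (422, 422), (424, 424), (425, 425), (423, 426), (0, 427), (0, 419), (428, 429), (430, 430), (431, 431), (432, 432), (433, 433), (419, 434), (435, 435), (435, 436), (436, 436), (438, 438), (437, 439), (439, 439), (440, 441), (442, 403), (348, 443), (368, 444), (387, 368), (442, 446), (442, 447), (444, 448), (411, 449), (77, 55), (450, 450), (452, 450), (451, 451), (454, 454), (454, 455), (455, 455), (456, 457), (457, 457), (458, 459), (453, 460), (453, 451), (461, 462), (463, 463), (451, 464), (465, 465), (466, 466), (467, 467), (465, 468), (468, 468), (470, 470), (469, 471), (453, 84), (453, 83), (473, 474), (475, 475), (83, 476), (477, 477), (478, 478), (479, 479), (480, 480), (481, 481), (482, 482)]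

/-- The products. -/
def ndProg6 : List (ℕ × ℕ) := [(477, 483), (472, 484), (453, 100), (453, 79), (486, 487), (488, 488), (489, 489), (488, 490), (79, 491), (472, 492), (493, 477), (485, 494), (56, 56), (56, 496), (496, 496), (497, 498), (498, 498), (500, 500), (499, 501), (453, 502), (453, 56), (503, 504), (505, 505), (506, 506), (505, 507), (56, 508), (80, 80), (510, 510), (511, 511), (512, 512), (511, 513), (453, 514), (453, 80), (515, 516), (517, 517), (518, 518), (517, 519), (80, 520), (484, 521), (509, 522), (144, 56), (111, 524), (57, 525), (526, 526), (526, 527), (527, 527), (529, 529), (528, 530), (453, 531), (453, 526), (532, 533), (534, 534), (535, 535), (534, 536), (526, 537), (538, 538), (538, 539), (539, 539), (541, 541), (540, 542), (509, 509), (509, 544), (544, 544), (545, 546), (547, 521), (543, 548), (543, 549), (523, 550), (495, 551)]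

end Cfsg.Lib.J4Maximal.P29
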